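import Mathlib.RingTheory.Trace.Basic
import Mathlib.LinearAlgebra.Matrix.Charpoly.Basic
import Mathlib.LinearAlgebra.Dimension.Free
import Mathlib.Tactic

/-!
# Free algebras of rank two
-/

universe u v

open Matrix

namespace Groth.Agent.DblCov14

variable {A : Type u} {B : Type v} [CommRing A] [CommRing B] [Algebra A B]

theorem matrix_two_identity (M : Matrix (Fin 2) (Fin 2) A) :
    (2 : A) • (M * M) - ((2 : A) * trace M) • M +
      ((trace M) ^ 2 - trace (M * M)) • (1 : Matrix (Fin 2) (Fin 2) A) = 0 := by
  ext i j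
  fin_cases i <;> fin_cases j <;>
    simp [Matrix.trace, Fin.sum_univ_two, Matrix.mul_apply] <;> ring

theorem quadratic_of_basis (e : Module.Basis (Fin 2) A B) (b : B) :
    2 * b ^ 2 - 2 * algebraMap A B (Algebra.trace A B b) * b +
      algebraMap A B (Algebra.trace A B b ^ 2 - Algebra.trace A B (b ^ 2)) = 0 := by
  have key : (2 : A) • (b * b) - ((2 : A) * Algebra.trace A B b) • b +
      (Algebra.trace A B b ^ 2 - Algebra.trace A B (b * b)) • (1 : B) = 0 := by
    apply Algebra.leftMulMatrix_injective e
    simp only [map_add, map_sub, map_smul, map_one, map_zero, map_mul, Algebra.trace_eq_matrix_trace e]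
    exact matrix_two_identity _
  rw [Algebra.smul_def, Algebra.smul_def, Algebra.smul_def, map_mul, map_ofNat, mul_one, ← sq] at key
  exact key

/-- if every element satisfies the quadratic identity then `tr b - b` is multiplicative -/
theorem sigma_mul (h2 : IsUnit (2 : A))
    (hq : ∀ b : B, 2 * b ^ 2 - 2 * algebraMap A B (Algebra.trace A B b) * b +
      algebraMap A B (Algebra.trace A B b ^ 2 - Algebra.trace A B (b ^ 2)) = 0) (b c : B) :
    algebraMap A B (Algebra.trace A B (b * c)) - b * c =
      (algebraMap A B (Algebra.trace A B b) - b) * (algebraMap A B (Algebra.trace A B c) - c) := by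
  have h2B : IsUnit (2 : B) := map_ofNat (algebraMap A B) 2 ▸ h2.map (algebraMap A B)
  have e : (b + c) ^ 2 = b ^ 2 + c ^ 2 + (b * c + b * c) := by ring
  have h := hq (b + c)
  have hb := hq b
  have hc := hq c
  simp only [e, map_add, map_sub, map_pow] at h hb hc
  apply h2B.mul_left_cancel
  linear_combination -h + hb + hc

theorem trace_one (e : Module.Basis (Fin 2) A B) : Algebra.trace A B 1 = 2 := by
  rw [← map_one (algebraMap A B), Algebra.trace_algebraMap_of_basis e]
  simp

/-- the involution -/
noncomputable def sigma (h2 : IsUnit (2 : A)) (htr : Algebra.trace A B 1 = 2)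
    (hq : ∀ b : B, 2 * b ^ 2 - 2 * algebraMap A B (Algebra.trace A B b) * b +
      algebraMap A B (Algebra.trace A B b ^ 2 - Algebra.trace A B (b ^ 2)) = 0) : B →ₐ[A] B :=
  AlgHom.ofLinearMap ((Algebra.linearMap A B).comp (Algebra.trace A B) - LinearMap.id)
    (by simp [htr, map_ofNat]; norm_num)
    (fun b c => sigma_mul h2 hq b c)

variable (h2 : IsUnit (2 : A)) (htr : Algebra.trace A B 1 = 2)
    (hq : ∀ b : B, 2 * b ^ 2 - 2 * algebraMap A B (Algebra.trace A B b) * b +
      algebraMap A B (Algebra.trace A B b ^ 2 - Algebra.trace A B (b ^ 2)) = 0)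

theorem sigma_apply (b : B) : sigma h2 htr hq b = algebraMap A B (Algebra.trace A B b) - b := rfl

include htr in
theorem trace_algebraMap' (a : A) : Algebra.trace A B (algebraMap A B a) = a * 2 := by
  rw [Algebra.algebraMap_eq_smul_one, map_smul, htr, smul_eq_mul]

theorem sigma_sigma : (sigma h2 htr hq).comp (sigma h2 htr hq) = AlgHom.id A B := by
  refine AlgHom.ext fun b => ?_
  rw [AlgHom.comp_apply, sigma_apply, sigma_apply, map_sub, trace_algebraMap' htr, map_sub, map_mul,
    map_ofNat]
  simp only [AlgHom.id_apply]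
  ring

theorem sigma_eq_iff (b : B) : sigma h2 htr hq b = b ↔ b ∈ Set.range (algebraMap A B) := by
  constructor
  · intro h
    have h2' := h2
    obtain ⟨v, hv⟩ := h2'
    refine ⟨↑v⁻¹ * Algebra.trace A B b, ?_⟩
    have hb : algebraMap A B (Algebra.trace A B b) = algebraMap A B ↑v * b := by
      rw [sigma_apply, sub_eq_iff_eq_add] at h
      rw [h, hv, map_ofNat, two_mul]
    rw [map_mul, hb, ← mul_assoc, ← map_mul, Units.inv_mul, map_one, one_mul]
  · rintro ⟨a, rfl⟩
    exact (sigma h2 htr hq).commutes a

theorem sigma_ne_id [Nontrivial A] [Module.Free A B] [Module.Finite A B] (hrk : Module.finrank A B = 2) :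
    sigma h2 htr hq ≠ AlgHom.id A B := by
  intro h
  have hs : Function.Surjective (algebraMap A B) := fun b =>
    ((sigma_eq_iff h2 htr hq b).1 (by rw [h]; rfl))
  have := LinearMap.finrank_range_le (Algebra.linearMap A B)
  rw [LinearMap.range_eq_top.2 hs, finrank_top, hrk, Module.finrank_self] at this
  omega

end Groth.Agent.DblCov14
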