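import Mathlib
import Groth.Prelude.Def_SGA1
import Groth.Agent.Lib.Trace12.DblExists
import Groth.Agent.Lib.LimH13.AffineSpec
import Groth.Agent.Lib.PushFin12.Basic

/-!
The involution of a double cover (2 invertible): ns `Groth.Agent.DblCov14`, `exists_involution`.
-/

set_option backward.isDefEq.respectTransparency.types false

universe u

open CategoryTheory Limits AlgebraicGeometry Opposite TopologicalSpace RelSpec

namespace Groth.Agent.DblCov14

open Trace12 M1 P1Split

section Alg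

variable {S : Scheme.{u}} (A : QCAlg S)

/-- Opens where the algebra is free of rank two. -/
def Bas2 (U : S.Opens) : Prop := ∃ e : Fin 2 → Γ(A.toModule, U), IsBas A.toModule U e

/-- The conjugation of a rank two algebra on sections. -/
noncomputable def conjVal (hA : FlatMod.IsFinLocFree A.toModule) (U : S.Opens) (a : A.presheaf.obj (op U)) :
    A.presheaf.obj (op U) :=
  (A.str.app (op U)).hom (trVal A hA U a) - a

theorem conjVal_res (hA : FlatMod.IsFinLocFree A.toModule) {U V : S.Opens} (h : V ≤ U)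
    (a : A.presheaf.obj (op U)) :
    A.presheaf.map (homOfLE h).op (conjVal A hA U a) = conjVal A hA V (A.presheaf.map (homOfLE h).op a) := by
  have ht : ores h (trVal A hA U a) = trVal A hA V (A.presheaf.map (homOfLE h).op a) := by
    refine eq_of_res_eq A hA _ _ fun W hW _ hb => ?_
    rw [ores_ores, ores_trVal A hA _ (hW.trans h) hb, ores_trVal A hA _ hW hb]
    exact congrArg _ (mres_mres A.toModule h hW (asMod A a)).symm
  rw [conjVal, conjVal, map_sub, ← ht]
  congr 1
  exact congr($(A.str.naturality (homOfLE h).op) (trVal A hA U a)).symm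

/-- Sections agreeing on the opens where the algebra is free agree. -/
theorem section_ext (h : ∀ x : S, ∀ W : S.Opens, x ∈ W → ∃ U : S.Opens, x ∈ U ∧ U ≤ W ∧ Bas2 A U)
    {W : S.Opens} (a b : A.presheaf.obj (op W))
    (hab : ∀ (U : S.Opens) (hU : U ≤ W), Bas2 A U →
      A.presheaf.map (homOfLE hU).op a = A.presheaf.map (homOfLE hU).op b) : a = b := by
  refine TopCat.Presheaf.section_ext ⟨A.presheaf, A.isSheaf⟩ W a b fun x hx => ?_
  obtain ⟨U, hxU, hle, hb⟩ := h x W hx
  have := congrArg (A.presheaf.germ U x hxU) (hab U hle hb)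
  exact (TopCat.Presheaf.germ_res_apply A.presheaf (homOfLE hle) x hxU a).symm.trans
    (this.trans (TopCat.Presheaf.germ_res_apply A.presheaf (homOfLE hle) x hxU b))

variable {A} in
theorem trVal_eq (hA : FlatMod.IsFinLocFree A.toModule) {U : S.Opens} (hb : Bas2 A U)
    (a : A.presheaf.obj (op U)) : trVal A hA U a = tr A U a := by
  have := ores_trVal A hA a (le_refl U) ⟨2, hb⟩
  rw [ores_id] at this
  rw [this]
  exact congrArg _ (mres_id A.toModule _ (asMod A a))

omit A in
theorem two_isUnit (h2 : IsUnit (2 : Γ(S, ⊤))) (U : S.Opens) : ∃ v : Γ(S, U), v * 2 = 1 := by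
  have h : IsUnit (2 : Γ(S, U)) := by
    have := h2.map (S.presheaf.map (homOfLE (le_top : U ≤ ⊤)).op).hom
    rwa [map_ofNat] at this
  obtain ⟨w, hw⟩ := h
  exact ⟨↑w⁻¹, by rw [← hw, Units.inv_mul]⟩

theorem conj_one (hA : FlatMod.IsFinLocFree A.toModule) {U : S.Opens} (hb : Bas2 A U) :
    conjVal A hA U 1 = 1 := by
  obtain ⟨e, he⟩ := hb
  rw [conjVal, trVal_eq hA ⟨e, he⟩]
  have h := tr_str A he 1
  rw [map_one] at h
  rw [h, two_nsmul, map_add, map_one, add_sub_cancel_right]

theorem conj_mul (hA : FlatMod.IsFinLocFree A.toModule) (h2 : IsUnit (2 : Γ(S, ⊤))) {U : S.Opens}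
    (hb : Bas2 A U) (a b : A.presheaf.obj (op U)) :
    conjVal A hA U (a * b) = conjVal A hA U a * conjVal A hA U b := by
  obtain ⟨v, hv⟩ := two_isUnit h2 U
  obtain ⟨e, he⟩ := hb
  rw [conjVal, conjVal, conjVal, trVal_eq hA ⟨e, he⟩, trVal_eq hA ⟨e, he⟩, trVal_eq hA ⟨e, he⟩]
  letI := Trace12.alg A U
  let s := (A.str.app (op U)).hom
  let T : A.presheaf.obj (op U) →ₗ[Γ(S, U)] Γ(S, U) := Algebra.trace Γ(S, U) _
  have hs : ∀ c : Γ(S, U), T (s c) = 2 • c := fun c => tr_str A he c
  have hsm : ∀ (c : Γ(S, U)) (x : A.presheaf.obj (op U)), T (s c * x) = c * T x := fun c x => tr_mul A U c x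
  -- reduce to trace-zero parts
  let a' := a - s (v * T a)
  let b' := b - s (v * T b)
  have h0 : ∀ x, tr A U (x - s (v * T x)) = 0 := fun x => by
    show T (x - s (v * T x)) = 0
    rw [map_sub, hs, nsmul_eq_mul, Nat.cast_ofNat, ← mul_assoc, mul_comm 2 v, hv, one_mul, sub_self]
  have hab : a' * b' = s (v * T (a' * b')) := exists_str_eq_mul A he hv (h0 a) (h0 b)
  have e2 : s v * 2 = 1 := by rw [← map_ofNat s 2, ← map_mul, hv, map_one]
  have hTab : T (a * b) = T (a' * b') + v * T a * T b := by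
    have hexp : a * b = a' * b' + s (v * T a) * b + s (v * T b) * a - s (v * T a * (v * T b)) := by
      simp only [a', b', map_mul]; ring
    rw [hexp, map_sub, map_add, map_add, hsm, hsm, hs, nsmul_eq_mul, Nat.cast_ofNat]
    linear_combination (-(v * T a * T b)) * hv
  show s (T (a * b)) - a * b = (s (T a) - a) * (s (T b) - b)
  obtain ⟨Z, hZ⟩ : ∃ Z, T (a' * b') = Z := ⟨_, rfl⟩
  rw [hZ] at hab hTab
  rw [hTab]
  obtain ⟨ta, hta⟩ : ∃ t, T a = t := ⟨_, rfl⟩
  obtain ⟨tb, htb⟩ : ∃ t, T b = t := ⟨_, rfl⟩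
  simp only [a', b', hta, htb, map_mul] at hab
  simp only [hta, htb, map_add, map_mul]
  linear_combination (-2 : A.presheaf.obj (op U)) * hab +
    (-(s Z + s ta * b + s tb * a) + s ta * s tb * (s v + 1)) * e2

theorem conj_add (hA : FlatMod.IsFinLocFree A.toModule) (U : S.Opens) (a b : A.presheaf.obj (op U)) :
    conjVal A hA U (a + b) = conjVal A hA U a + conjVal A hA U b := by
  have h : trVal A hA U (a + b) = trVal A hA U a + trVal A hA U b :=
    map_add ((traceHom A hA).app U).hom (asMod A a) (asMod A b)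
  rw [conjVal, conjVal, conjVal, h, map_add]
  abel

/-- The conjugation as an endomorphism of the algebra. -/
noncomputable def conjHom (hA : FlatMod.IsFinLocFree A.toModule) (h2 : IsUnit (2 : Γ(S, ⊤)))
    (h : ∀ x : S, ∀ W : S.Opens, x ∈ W → ∃ U : S.Opens, x ∈ U ∧ U ≤ W ∧ Bas2 A U) : A ⟶ A where
  hom :=
    { app := fun U => CommRingCat.ofHom
        { toFun := conjVal A hA U.unop
          map_one' := section_ext A h _ _ fun V hV hb => by
            rw [conjVal_res, map_one, conj_one A hA hb]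
          map_mul' := fun a b => section_ext A h _ _ fun V hV hb => by
            rw [map_mul, conjVal_res, conjVal_res, conjVal_res, map_mul, conj_mul A hA h2 hb]
          map_zero' := by
            have := conj_add A hA U.unop 0 0
            rwa [add_zero, left_eq_add] at this
          map_add' := conj_add A hA U.unop }
      naturality := fun U V i => by
        ext a
        exact (conjVal_res A hA i.unop.le a).symm }
  comm := by
    ext U c
    show conjVal A hA U ((A.str.app (op U)).hom c) = (A.str.app (op U)).hom c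
    refine section_ext A h _ _ fun V hV hb => ?_
    rw [conjVal_res]
    have hn : A.presheaf.map (homOfLE hV).op ((A.str.app (op U)).hom c) =
        (A.str.app (op V)).hom (S.presheaf.map (homOfLE hV).op c) :=
      congr($(A.str.naturality (homOfLE hV).op) c).symm
    rw [hn]
    obtain ⟨e, he⟩ := hb
    rw [conjVal, trVal_eq hA ⟨e, he⟩, tr_str A he, two_nsmul, map_add, add_sub_cancel_right]

theorem conjHom_app (hA : FlatMod.IsFinLocFree A.toModule) (h2 : IsUnit (2 : Γ(S, ⊤)))
    (h : ∀ x : S, ∀ W : S.Opens, x ∈ W → ∃ U : S.Opens, x ∈ U ∧ U ≤ W ∧ Bas2 A U) (U : S.Opens)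
    (a : A.presheaf.obj (op U)) : ((conjHom A hA h2 h).hom.app (op U)).hom a = conjVal A hA U a := rfl

theorem conjHom_invol (hA : FlatMod.IsFinLocFree A.toModule) (h2 : IsUnit (2 : Γ(S, ⊤)))
    (h : ∀ x : S, ∀ W : S.Opens, x ∈ W → ∃ U : S.Opens, x ∈ U ∧ U ≤ W ∧ Bas2 A U) :
    conjHom A hA h2 h ≫ conjHom A hA h2 h = 𝟙 A := by
  ext U a
  show conjVal A hA U (conjVal A hA U a) = a
  refine section_ext A h _ _ fun V hV hb => ?_
  rw [conjVal_res, conjVal_res]
  obtain ⟨e, he⟩ := hb
  generalize A.presheaf.map (homOfLE hV).op a = x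
  rw [conjVal, conjVal, trVal_eq hA ⟨e, he⟩, trVal_eq hA ⟨e, he⟩]
  have hT : tr A V ((A.str.app (op V)).hom (tr A V x) - x) = tr A V x := by
    letI := Trace12.alg A V
    show Algebra.trace Γ(S, V) _ (_ - x) = _
    rw [map_sub]
    show tr A V _ - tr A V x = _
    rw [tr_str A he, two_nsmul, add_sub_cancel_right]
  rw [hT]
  exact sub_sub_cancel _ _

/-- Fixed sections are scalars. -/
theorem fixed_iff (hA : FlatMod.IsFinLocFree A.toModule) (h2 : IsUnit (2 : Γ(S, ⊤))) {U : S.Opens}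
    (a : A.presheaf.obj (op U)) (ha : conjVal A hA U a = a) :
    ∃ c, (A.str.app (op U)).hom c = a := by
  obtain ⟨v, hv⟩ := two_isUnit h2 U
  refine ⟨v * trVal A hA U a, ?_⟩
  have e2 : (A.str.app (op U)).hom v * 2 = 1 := by
    rw [← map_ofNat (A.str.app (op U)).hom 2, ← map_mul, hv, map_one]
  rw [conjVal] at ha
  rw [map_mul]
  linear_combination ((A.str.app (op U)).hom v) * ha + a * e2

end Alg

section Scheme

variable {X Y : Scheme.{u}} (f : X ⟶ Y) [IsFinite f] [Flat f] [LocallyOfFinitePresentation f]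

theorem isFinLocFree_directImage : FlatMod.IsFinLocFree (QCAlg.directImage f).toModule := by
  exact ((PushFin12.finLocFree_iff f).2 ⟨inferInstance, inferInstance, inferInstance⟩).2

theorem exists_bas2 (hrk : ∀ y : Y, f.finrank y = 2) (x : Y) (W : Y.Opens) (hx : x ∈ W) :
    ∃ U : Y.Opens, x ∈ U ∧ U ≤ W ∧ Bas2 (QCAlg.directImage f) U := by
  obtain ⟨U, hU, hxU, hle, n, e, he⟩ := exists_affine_hasBas _ (isFinLocFree_directImage f) hx
  suffices n = 2 by subst this; exact ⟨U, hxU, hle, e, he⟩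
  obtain ⟨b, -⟩ := exists_basis _ he
  haveI : IsAffine (f ⁻¹ᵁ U).toScheme := hU.preimage f
  have hfin : (f.app U).hom.Finite := f.finite_app U hU
  have hflat : (f.app U).hom.Flat := by
    have h := f.flat_appLE hU (hU.preimage f) le_rfl
    rwa [← Scheme.Hom.app_eq_appLE] at h
  have hpb : IsPullback (hU.preimage f).fromSpec (Spec.map (f.app U)) f hU.fromSpec :=
    (IsOpenImmersion.isPullback _ _ _ _ (by
      rw [Scheme.Hom.app_eq_appLE]
      exact (hU.SpecMap_appLE_fromSpec f (hU.preimage f) le_rfl).symm)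
      (by rw [hU.opensRange_fromSpec, (hU.preimage f).opensRange_fromSpec])).flip
  have h2 := hrk (hU.fromSpec (hU.primeIdealOf ⟨x, hxU⟩))
  rw [← Scheme.Hom.finrank_of_isPullback _ _ _ _ hpb,
    Scheme.Hom.finrank_SpecMap_eq_finrank hfin hflat] at h2
  letI : Algebra Γ(Y, U) Γ(X, f ⁻¹ᵁ U) := (f.app U).hom.toAlgebra
  let b' : Module.Basis (Fin n) Γ(Y, U) Γ(X, f ⁻¹ᵁ U) := b
  haveI : Module.Free Γ(Y, U) Γ(X, f ⁻¹ᵁ U) := Module.Free.of_basis b'
  haveI : Module.Finite Γ(Y, U) Γ(X, f ⁻¹ᵁ U) := hfin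
  haveI : Nontrivial Γ(Y, U) := (hU.primeIdealOf ⟨x, hxU⟩).nontrivial
  have h3 : Module.finrank Γ(Y, U) Γ(X, f ⁻¹ᵁ U) = n := by
    rw [Module.finrank_eq_card_basis b', Fintype.card_fin]
  rw [← h3, ← h2]
  exact (congrFun (Module.rankAtStalk_eq_finrank_of_free (R := Γ(Y, U)) (M := Γ(X, f ⁻¹ᵁ U))) _).symm

open Groth.Agent.LimH13 in
/-- The involution of a double cover. -/
theorem exists_involution (hrk : ∀ y : Y, f.finrank y = 2) (h2 : IsUnit (2 : Γ(Y, ⊤))) :
    ∃ σ : Aut X, σ.hom ≫ f = f ∧ σ * σ = 1 ∧ SGA1.IsQuot (Subgroup.zpowers σ).subtype f := by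
  let A := QCAlg.directImage f
  let hA := isFinLocFree_directImage f
  have hb := exists_bas2 f hrk
  let φ := conjHom A hA h2 hb
  let t := SubAlg.toSpec f
  let c : X ⟶ X := t ≫ QCAlg.specMap φ ≫ inv t
  have hcc : c ≫ c = 𝟙 X := by
    simp only [c, Category.assoc, IsIso.inv_hom_id_assoc]
    rw [← reassoc_of% (SubAlg.specMap_comp φ φ), conjHom_invol A hA h2 hb, SubAlg.specMap_id,
      Category.id_comp, IsIso.hom_inv_id]
  let σ : Aut X := ⟨c, c, hcc, hcc⟩
  have hσf : σ.hom ≫ f = f := by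
    show c ≫ f = f
    have h1 : inv t ≫ f = A.π := (IsIso.inv_comp_eq t).2 (SubAlg.toSpec_π f).symm
    simp only [c, Category.assoc, h1, QCAlg.specMap_π]
    exact SubAlg.toSpec_π f
  have hσ2 : σ * σ = 1 := Iso.ext hcc
  have hgrp : ∀ g : Subgroup.zpowers σ, (g : Aut X) = 1 ∨ (g : Aut X) = σ := fun g => by
    obtain ⟨k, hk⟩ := Subgroup.mem_zpowers_iff.1 g.2
    rw [← hk]
    rcases Int.even_or_odd k with ⟨m, rfl⟩ | ⟨m, rfl⟩
    · left; rw [← two_mul, zpow_mul, zpow_two, hσ2, one_zpow]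
    · right; rw [zpow_add, zpow_mul, zpow_two, hσ2, one_zpow, one_mul, zpow_one]
  have hinv : ∀ g : Subgroup.zpowers σ, ((Subgroup.zpowers σ).subtype g).hom ≫ f = f := fun g => by
    show (g : Aut X).hom ≫ f = f
    rcases hgrp g with h | h <;> rw [h]
    · exact Category.id_comp f
    · exact hσf
  have happ : ∀ (V : Y.Opens) (hV : IsAffineOpen V) (e : f ⁻¹ᵁ V ≤ σ.hom ⁻¹ᵁ f ⁻¹ᵁ V),
      σ.hom.appLE (f ⁻¹ᵁ V) (f ⁻¹ᵁ V) e = φ.hom.app (op V) := by
    intro V hV e
    have hW := hV.preimage f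
    haveI : IsAffine (f ⁻¹ᵁ V).toScheme := hW
    have ht : hW.fromSpec ≫ t = A.ι V hV := by
      haveI : IsIso (f ⁻¹ᵁ V).toSpecΓ := by
        delta Scheme.Opens.toSpecΓ
        infer_instance
      rw [← cancel_epi (f ⁻¹ᵁ V).toSpecΓ, ← Category.assoc, hW.toSpecΓ_fromSpec]
      exact SubAlg.ι_toSpec f V hV
    apply Spec.map_injective
    rw [← cancel_mono hW.fromSpec, IsAffineOpen.SpecMap_appLE_fromSpec σ.hom hW hW e, ← cancel_mono t]
    show (hW.fromSpec ≫ c) ≫ t = (Spec.map (φ.hom.app (op V)) ≫ hW.fromSpec) ≫ t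
    simp only [c, Category.assoc, IsIso.inv_hom_id, Category.comp_id, reassoc_of% ht]
    exact (QCAlg.ι_specMap V hV φ).trans (congrArg (Spec.map (φ.hom.app (op V)) ≫ ·) ht.symm)
  refine ⟨σ, hσf, hσ2, inferInstance, hinv, fun U => ?_, fun U s => ⟨?_, fun hs => ?_⟩⟩
  · -- injectivity
    intro a b hab
    refine TopCat.Presheaf.section_ext Y.sheaf U a b fun x hx => ?_
    obtain ⟨V, hxV, hle, e, he⟩ := hb x U hx
    have hres : ores hle a = ores hle b := by
      obtain ⟨v, hv⟩ := two_isUnit h2 V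
      have h1 : (A.str.app (op V)).hom (ores hle a) = (A.str.app (op V)).hom (ores hle b) := by
        have := congrArg (X.presheaf.map (homOfLE ((Opens.map f.base).monotone hle)).op) hab
        rw [← ConcreteCategory.comp_apply, ← ConcreteCategory.comp_apply] at this
        exact (congr($(f.naturality (homOfLE hle).op) a)).trans (this.trans
          (congr($(f.naturality (homOfLE hle).op) b)).symm)
      have h3 := congrArg (tr A V) h1
      rw [tr_str A he, tr_str A he, nsmul_eq_mul, nsmul_eq_mul, Nat.cast_ofNat] at h3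
      have h4 := congrArg (v * ·) h3
      simpa only [← mul_assoc, hv, one_mul] using h4
    have h5 := congrArg (Y.presheaf.germ V x hxV) hres
    rwa [show Y.presheaf.germ V x hxV (ores hle a) = Y.presheaf.germ U x hx a from
        Y.presheaf.germ_res_apply _ x hxV a,
      show Y.presheaf.germ V x hxV (ores hle b) = Y.presheaf.germ U x hx b from
        Y.presheaf.germ_res_apply _ x hxV b] at h5
  · rintro ⟨a, rfl⟩ g
    have h := Scheme.Hom.appLE_comp_appLE ((Subgroup.zpowers σ).subtype g).hom f U (f ⁻¹ᵁ U) (f ⁻¹ᵁ U)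
      le_rfl (SGA1.preimage_le_of_inv _ _ hinv g U)
    rw [← Scheme.Hom.app_eq_appLE] at h
    rw [← ConcreteCategory.comp_apply, h]
    have h' : ∀ (p : X ⟶ Y) (e : f ⁻¹ᵁ U ≤ p ⁻¹ᵁ U), p = f → p.appLE U (f ⁻¹ᵁ U) e = f.app U := by
      rintro p e rfl; exact (Scheme.Hom.app_eq_appLE _).symm
    rw [h' _ _ (hinv g)]
  · skip
    have hfix : conjVal A hA U s = s := by
      refine section_ext A hb _ _ fun V hV _ => ?_
      refine TopCat.Presheaf.section_ext ⟨A.presheaf, A.isSheaf⟩ V _ _ fun x hx => ?_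
      obtain ⟨W, hW, hxW, hWV⟩ := exists_isAffineOpen_mem_and_subset hx
      have hWV' : W ≤ V := hWV
      have key : A.presheaf.map (homOfLE (hWV'.trans hV)).op (conjVal A hA U s) =
          A.presheaf.map (homOfLE (hWV'.trans hV)).op s := by
        rw [conjVal_res]
        have e1 : f ⁻¹ᵁ W ≤ σ.hom ⁻¹ᵁ f ⁻¹ᵁ W := by rw [← Scheme.Hom.comp_preimage, hσf]
        have h6 := congrArg (fun q => q.hom (A.presheaf.map (homOfLE (hWV'.trans hV)).op s)) (happ W hW e1)
        refine h6.symm.trans ?_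
        have h7 := hs ⟨σ, Subgroup.mem_zpowers σ⟩
        conv_rhs => rw [← h7]
        show σ.hom.appLE (f ⁻¹ᵁ W) (f ⁻¹ᵁ W) e1 (X.presheaf.map _ s) =
          X.presheaf.map _ (σ.hom.appLE (f ⁻¹ᵁ U) (f ⁻¹ᵁ U) _ s)
        rw [← ConcreteCategory.comp_apply, ← ConcreteCategory.comp_apply, Scheme.Hom.map_appLE,
          Scheme.Hom.appLE_map]
      have h8 := congrArg (A.presheaf.germ W x hxW) key
      rw [TopCat.Presheaf.germ_res_apply, TopCat.Presheaf.germ_res_apply] at h8
      rw [TopCat.Presheaf.germ_res_apply, TopCat.Presheaf.germ_res_apply]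
      exact h8
    exact fixed_iff A hA h2 s hfix

end Scheme

end Groth.Agent.DblCov14
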